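import Cfsg.Agent.Nodes.OppDec

/-!
# Fixed points of a group of compatible automorphisms of a root group datum (S4884, `q = 2`; helper673)

* `Hm` : a homomorphism compatible with two root group data of the same type;
* `Fx.mem_iff` : if `S` acts on `Y'` by compatible automorphisms, `φ : Y →* Y'` is compatible with fixed image, the fixed points
  in `T'` and in the simple root groups lie in the image of `T`, of the simple root groups, then the
  fixed points of `S` are the range of `φ`.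
-/

set_option autoImplicit false
set_option linter.unusedSectionVars false

namespace Cfsg.Agent.H673.OC

open CoxeterSystem Cfsg.Agent.ChevalleyStructure.CoxeterGeom Cfsg.Agent.Tits.Roots Cfsg.Agent.Tits.Core
  Cfsg.Agent.Tits.Exchange Cfsg.Agent.Nodes.Reps Cfsg.Agent.Nodes.BNOf Cfsg.Agent.Nodes.StabComb
  Cfsg.Agent.Nodes.Bruhat Cfsg.Agent.Nodes.OppDec

variable {I W Y Y' Y'' : Type*} [Fintype I] [DecidableEq I] [Group W] [Group Y] [Group Y'] [Group Y'']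
  {M : CoxeterMatrix I}
  {cs : CoxeterSystem M W} {A : I → I → ℤ} {h : IsCartan M A} {p p' p'' : ℕ} {T : Subgroup Y} {n : I → Y}
  {X : (I → ℤ) → Subgroup Y} {T' : Subgroup Y'} {n' : I → Y'} {X' : (I → ℤ) → Subgroup Y'}
  {T'' : Subgroup Y''} {n'' : I → Y''} {X'' : (I → ℤ) → Subgroup Y''}

section Peel

variable (R : RGD cs h p T n X)

include R

/-- `n_i⁻¹ c n_i ∈ X_{-α_i}` -/
theorem conj_inv_n_mem (i : I) {c : Y} (hc : c ∈ X (sr i)) : (n i)⁻¹ * c * n i ∈ X (-sr i) := by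
  have h1 := R.conj_mem' (rp_simple cs R.nsys i) (isRoot_sr cs h i) hc
  rwa [inv_simple, rep_simple_sr] at h1

/-- peeling off a simple root group: existence -/
theorem peel {i : I} {w : W} {g : Y} (hg : Cell R.nsys cs h X (cs.simple i * w) g) :
    ∃ a ∈ X (sr i), Cell R.nsys cs h X w ((a * n i)⁻¹ * g) := by
  obtain ⟨b, hb, k, hk, b', hb', rfl⟩ := hg
  obtain ⟨v, hv, u, hu, t, ht, e⟩ := R.mem_B' i (inv_mem hb)
  have hb1 : b = (t⁻¹ * u⁻¹ * t) * (t⁻¹ * v⁻¹) := by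
    rw [← inv_inv b, e]; group
  have ha : t⁻¹ * u⁻¹ * t ∈ X (sr i) := by
    have h1 := R.tor _ (isRoot_sr cs h i) t⁻¹ (inv_mem ht)
    have h2 : t⁻¹ * u⁻¹ * t⁻¹⁻¹ ∈ cj t⁻¹ (X (sr i)) := conj_mem_cj.2 (inv_mem hu)
    rwa [h1, inv_inv] at h2
  refine ⟨_, ha, ?_⟩
  have hk' : Rp cs R.nsys w ((n i)⁻¹ * k) := by
    have h1 := (rp_simple cs R.nsys i).inv.mul hk
    rwa [inv_simple, ← mul_assoc, simple_mul_simple_self, one_mul] at h1
  have h3 : (n i)⁻¹ * t⁻¹ * n i ∈ T := by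
    have h4 := (Subgroup.mem_normalizer_iff.1 (inv_mem (R.nsys.norm i)) t⁻¹).1 (inv_mem ht)
    rwa [inv_inv] at h4
  have h5 : (n i)⁻¹ * v⁻¹ * n i ∈ RGD.Sup X (RGD.PosNe cs h i) := by
    have h6 : v⁻¹ ∈ cj (n i) (RGD.Sup X (RGD.PosNe cs h i)) := by
      rw [R.cj_n_V i]; exact inv_mem hv
    exact mem_cj.1 h6
  have h7 : (n i)⁻¹ * v⁻¹ * n i ∈ RGD.B cs h T X :=
    RGD.U_le_B (RGD.Sup_mono (S := RGD.PosNe cs h i) (S' := RGD.Pos cs h) (fun z hz => ⟨hz.1, hz.2.1⟩) h5)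
  have h8 : ((t⁻¹ * u⁻¹ * t) * n i)⁻¹ * (b * k * b') =
      (((n i)⁻¹ * t⁻¹ * n i) * ((n i)⁻¹ * v⁻¹ * n i)) * ((n i)⁻¹ * k * b') := by
    conv_lhs => rw [hb1]
    group
  rw [h8]
  exact (((cell_of_rp hk').mul_right hb')).mul_left (mul_mem (RGD.T_le_B h3) h7)

/-- peeling off a simple root group: uniqueness -/
theorem peel_unique [Finite W] {i : I} {w : W} (hlen : cs.length (cs.simple i * w) = cs.length w + 1) {g a a' : Y}
    (ha : a ∈ X (sr i)) (ha' : a' ∈ X (sr i)) (h1 : Cell R.nsys cs h X w ((a * n i)⁻¹ * g))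
    (h2 : Cell R.nsys cs h X w ((a' * n i)⁻¹ * g)) : a = a' := by
  by_contra hne
  have hc : a⁻¹ * a' ∈ X (sr i) := mul_mem (inv_mem ha) ha'
  have hc1 : a⁻¹ * a' ≠ 1 := fun h3 => hne (inv_mul_eq_one.1 h3)
  have hd := conj_inv_n_mem R i hc
  have hd1 : (n i)⁻¹ * (a⁻¹ * a') * n i ≠ 1 := by
    intro h3
    apply hc1
    have h4 : a⁻¹ * a' = n i * ((n i)⁻¹ * (a⁻¹ * a') * n i) * (n i)⁻¹ := by group
    rw [h4, h3]; group
  obtain ⟨x, hx, t, ht, y, hy, e⟩ := R.rk1 i _ hd hd1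
  have hC : Cell R.nsys cs h X (cs.simple i) ((n i)⁻¹ * (a⁻¹ * a') * n i) := by
    rw [e]
    have h3 : x * t ∈ RGD.B cs h T X :=
      mul_mem (RGD.X_le_B (isRoot_sr cs h i) (sr_nonneg i) hx) (RGD.T_le_B ht)
    exact ((cell_of_rp (rp_simple cs R.nsys i)).mul_left h3).mul_right
      (RGD.X_le_B (isRoot_sr cs h i) (sr_nonneg i) hy)
  have h3 := Cell.mul_of_length R (v := cs.simple i) (w := w) (by rw [cs.length_simple, hlen, add_comm]) hC h2
  have h4 : (n i)⁻¹ * (a⁻¹ * a') * n i * ((a' * n i)⁻¹ * g) = (a * n i)⁻¹ * g := by group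
  rw [h4] at h3
  have h5 := Cell.unique R h1 h3
  rw [← h5] at hlen
  omega

end Peel

/-- a homomorphism compatible with the root group data -/
structure Hm (cs : CoxeterSystem M W) (h : IsCartan M A) (T : Subgroup Y) (n : I → Y) (X : (I → ℤ) → Subgroup Y)
    (T' : Subgroup Y') (n' : I → Y') (X' : (I → ℤ) → Subgroup Y') (φ : Y →* Y') : Prop where
  T : ∀ t ∈ T, φ t ∈ T'
  n : ∀ i, φ (n i) = n' i
  X : ∀ z, IsRoot cs h z → 0 ≤ z → ∀ y ∈ X z, φ y ∈ X' z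

namespace Hm

variable {φ : Y →* Y'} (H : Hm cs h T n X T' n' X' φ)

include H

theorem Sup {S : Set (I → ℤ)} (hS : ∀ z ∈ S, IsRoot cs h z ∧ 0 ≤ z) {u : Y} (hu : u ∈ RGD.Sup X S) :
    φ u ∈ RGD.Sup X' S := by
  have h1 : RGD.Sup X S ≤ (RGD.Sup X' S).comap φ := RGD.Sup_le fun z hz y hy =>
    RGD.le_Sup hz (H.X z (hS z hz).1 (hS z hz).2 y hy)
  exact h1 hu

theorem U {u : Y} (hu : u ∈ RGD.Sup X (RGD.Pos cs h)) : φ u ∈ RGD.Sup X' (RGD.Pos cs h) := H.Sup (fun _ hz => hz) hu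

theorem B {b : Y} (hb : b ∈ RGD.B cs h T X) : φ b ∈ RGD.B cs h T' X' := by
  have h1 : RGD.B cs h T X ≤ (RGD.B cs h T' X').comap φ :=
    sup_le (fun t ht => RGD.T_le_B (H.T t ht)) fun u hu => RGD.U_le_B (H.U hu)
  exact h1 hb

theorem rp (R : RGD cs h p T n X) (R' : RGD cs h p' T' n' X') {w : W} {k : Y} (hk : Rp cs R.nsys w k) :
    Rp cs R'.nsys w (φ k) := by
  have key : ∀ ω : List I, ∃ k0, Rp cs R.nsys (cs.wordProd ω) k0 ∧ Rp cs R'.nsys (cs.wordProd ω) (φ k0) := by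
    intro ω
    induction ω with
    | nil => exact ⟨1, by rw [wordProd_nil]; exact rp_one, by rw [wordProd_nil, map_one]; exact rp_one⟩
    | cons i ω ih =>
      obtain ⟨k0, h1, h2⟩ := ih
      refine ⟨n i * k0, ?_, ?_⟩
      · rw [wordProd_cons]; exact (rp_simple cs R.nsys i).mul h1
      · rw [wordProd_cons, map_mul, H.n]; exact (rp_simple cs R'.nsys i).mul h2
  obtain ⟨ω, rfl⟩ := cs.wordProd_surjective w
  obtain ⟨k0, h1, h2⟩ := key ω
  have h3 : φ k = φ k0 * φ (k0⁻¹ * k) := by rw [← map_mul]; congr 1; group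
  rw [h3]
  exact h2.mul_mem_right (H.T _ (h1.unique hk))

theorem cell (R : RGD cs h p T n X) (R' : RGD cs h p' T' n' X') {w : W} {g : Y} (hg : Cell R.nsys cs h X w g) :
    Cell R'.nsys cs h X' w (φ g) := by
  obtain ⟨b, hb, k, hk, b', hb', rfl⟩ := hg
  exact ⟨φ b, H.B hb, φ k, H.rp R R' hk, φ b', H.B hb', by rw [map_mul, map_mul]⟩

/-- the preimage of the Borel subgroup -/
theorem mem_B [Finite W] (R : RGD cs h p T n X) (R' : RGD cs h p' T' n' X') {g : Y} (hG : g ∈ GG cs h T X)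
    (hg : φ g ∈ RGD.B cs h T' X') : g ∈ RGD.B cs h T X := by
  obtain ⟨w, hw⟩ := (mem_GG R).1 hG
  have h1 := H.cell R R' hw
  have h2 := Cell.unique R' (cell_one_of_mem hg) h1
  rw [← h2] at hw
  exact hw.mem_of_one

/-- the preimage of the unipotent group -/
theorem mem_U [Finite W] (R : RGD cs h p T n X) (R' : RGD cs h p T' n' X') (hφ : Function.Injective φ) {g : Y}
    (hG : g ∈ GG cs h T X) (hg : φ g ∈ RGD.Sup X' (RGD.Pos cs h)) : g ∈ RGD.Sup X (RGD.Pos cs h) := by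
  have h1 := H.mem_B R R' hG (RGD.U_le_B hg)
  obtain ⟨k, hk⟩ := R'.isPGroup_Upos ⟨φ g, hg⟩
  refine R.mem_U_of_mem_B h1 (k := k) (hφ ?_)
  rw [map_pow, map_one]
  exact congrArg Subtype.val hk

end Hm

/-- the hypotheses on the action -/
structure Fx (cs : CoxeterSystem M W) (h : IsCartan M A) (T : Subgroup Y) (n : I → Y) (X : (I → ℤ) → Subgroup Y)
    (T' : Subgroup Y') (n' : I → Y') (X' : (I → ℤ) → Subgroup Y') (φ : Y →* Y') (S : Type*) [Group S]
    [MulDistribMulAction S Y'] : Prop where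
  hm : Hm cs h T n X T' n' X' φ
  inj : Function.Injective φ
  act : ∀ s : S, Hm cs h T' n' X' T' n' X' (MulDistribMulAction.toMonoidHom Y' s)
  fix : ∀ (s : S) (y : Y), s • φ y = φ y
  fT : ∀ t ∈ T', (∀ s : S, s • t = t) → ∃ t0 ∈ T, φ t0 = t
  fX : ∀ i, ∀ x ∈ X' (sr i), (∀ s : S, s • x = x) → ∃ x0 ∈ X (sr i), φ x0 = x

namespace Fx

variable {φ : Y →* Y'} {S : Type*} [Group S] [MulDistribMulAction S Y'] (H : Fx cs h T n X T' n' X' φ S)
  (R : RGD cs h p T n X) (R' : RGD cs h p' T' n' X')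

include H R'

theorem smul_n (s : S) (i : I) : s • n' i = n' i := (H.act s).n i

theorem cell_smul (s : S) {w : W} {g : Y'} (hg : Cell R'.nsys cs h X' w g) : Cell R'.nsys cs h X' w (s • g) :=
  (H.act s).cell R' R' hg

/-- peeling off everything -/
theorem peelAll [Finite W] {w : W} : ∀ {g : Y'}, Cell R'.nsys cs h X' w g → (∀ s : S, s • g = g) →
    ∃ y : Y, ∃ b ∈ RGD.B cs h T' X', (∀ s : S, s • b = b) ∧ g = φ y * b := by
  induction hn : cs.length w using Nat.strong_induction_on generalizing w with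
  | _ N ih =>
  intro g hg hfix
  by_cases hw : w = 1
  · subst hw
    exact ⟨1, g, hg.mem_of_one, hfix, by rw [map_one, one_mul]⟩
  obtain ⟨i, hi⟩ := cs.exists_leftDescent_of_ne_one hw
  have hi' : cs.length (cs.simple i * w) < cs.length w := hi
  have hlen : cs.length (cs.simple i * w) + 1 = cs.length w := by
    have := cs.length_simple_mul w i
    omega
  have hww : cs.simple i * (cs.simple i * w) = w := by rw [← mul_assoc, simple_mul_simple_self, one_mul]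
  obtain ⟨a, ha, hc⟩ := peel R' (i := i) (w := cs.simple i * w) (g := g) (by rw [hww]; exact hg)
  have hfa : ∀ s : S, s • a = a := by
    intro s
    have h1 := H.cell_smul R' s hc
    have h2 : s • ((a * n' i)⁻¹ * g) = ((s • a) * n' i)⁻¹ * g := by
      rw [smul_mul', smul_inv', smul_mul', H.smul_n R' s i, hfix]
    rw [h2] at h1
    have h3 : s • a ∈ X' (sr i) := (H.act s).X _ (isRoot_sr cs h i) (sr_nonneg i) a ha
    exact peel_unique R' (i := i) (w := cs.simple i * w) (by rw [hww, hlen]) h3 ha h1 hc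
  obtain ⟨x, hx, rfl⟩ := H.fX i a ha hfa
  have hfix' : ∀ s : S, s • ((φ x * n' i)⁻¹ * g) = (φ x * n' i)⁻¹ * g := by
    intro s
    rw [smul_mul', smul_inv', smul_mul', H.smul_n R' s i, hfix, hfa]
  obtain ⟨y, b, hb, hfb, e⟩ := ih (cs.length (cs.simple i * w)) (by omega) rfl hc hfix'
  refine ⟨x * n i * y, b, hb, hfb, ?_⟩
  have h1 : g = (φ x * n' i) * ((φ x * n' i)⁻¹ * g) := by group
  rw [h1, e, map_mul, map_mul, H.hm.n]
  simp only [mul_assoc]

include R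

/-- the fixed points in `U'` -/
theorem mem_U [Finite W] (hG : GG cs h T X = ⊤) {u : Y'} (hu : u ∈ RGD.Sup X' (RGD.Pos cs h))
    (hfix : ∀ s : S, s • u = u) : ∃ u0 ∈ RGD.Sup X (RGD.Pos cs h), φ u0 = u := by
  obtain ⟨k0, hk0, hr0⟩ := exists_rp_closure (cs := cs) (hN := R.nsys) (w0 cs)
  have hr' := H.hm.rp R R' hr0
  have hC : Cell R'.nsys cs h X' (w0 cs) (u * φ k0) := (cell_of_rp hr').mul_left (RGD.U_le_B hu)
  obtain ⟨y, b, hb, -, e⟩ := H.peelAll R' hC fun s => by rw [smul_mul', hfix, H.fix]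
  obtain ⟨v, hv⟩ := (mem_GG R).1 (hG ▸ Subgroup.mem_top y : y ∈ GG cs h T X)
  have hvw : v = w0 cs := by
    have h1 := H.hm.cell R R' hv
    have h2 : φ y = (u * φ k0) * b⁻¹ := by rw [e]; group
    rw [h2] at h1
    exact Cell.unique R' h1 (hC.mul_right (inv_mem hb))
  subst hvw
  obtain ⟨b1, hb1, k1, hk1, b2, hb2, rfl⟩ := hv
  obtain ⟨t, ht, u1, hu1, e1⟩ := R.mem_B.1 (inv_mem hb1)
  have hb1' : b1 = u1⁻¹ * t⁻¹ := by rw [← inv_inv b1, e1]; group
  have hk2 : Rp cs R.nsys (w0 cs) (t⁻¹ * k1) := by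
    have := (rp_of_mem (cs := cs) (hN := R.nsys) (inv_mem ht)).mul hk1
    rwa [one_mul] at this
  have ht2 := hr0.unique hk2
  have hb3 : k0⁻¹ * (t⁻¹ * k1) * b2 ∈ RGD.B cs h T X := mul_mem (RGD.T_le_B ht2) hb2
  have h3 : (φ k0)⁻¹ * (φ u1 * u) * φ k0 = φ (k0⁻¹ * (t⁻¹ * k1) * b2) * b := by
    have h4 : u * φ k0 = φ (b1 * k1 * b2) * b := e
    have h5 : (φ k0)⁻¹ * (φ u1 * u) * φ k0 = (φ k0)⁻¹ * φ u1 * (u * φ k0) := by group
    rw [h5, h4, hb1']
    simp only [map_mul, map_inv]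
    group
  have h6 := mem_PW_of_conj R' hr' (u := φ u1 * u) (mul_mem (H.hm.U hu1) hu) (by
    rw [h3]; exact mul_mem (H.hm.B hb3) hb)
  rw [w0_inv, PW_w0, Sup_empty, Subgroup.mem_bot] at h6
  refine ⟨u1⁻¹, inv_mem hu1, ?_⟩
  rw [map_inv, inv_eq_iff_mul_eq_one, h6]

/-- **the fixed points** -/
theorem mem_iff [Finite W] (hG : GG cs h T X = ⊤) (hG' : GG cs h T' X' = ⊤) (g : Y') :
    (∀ s : S, s • g = g) ↔ ∃ y, φ y = g := by
  refine ⟨fun hfix => ?_, ?_⟩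
  · obtain ⟨w, hw⟩ := (mem_GG R').1 (hG' ▸ Subgroup.mem_top g : g ∈ GG cs h T' X')
    obtain ⟨y, b, hb, hfb, rfl⟩ := H.peelAll R' hw hfix
    obtain ⟨t, ht, u, hu, rfl⟩ := R'.mem_B.1 hb
    have key : ∀ s : S, s • t = t ∧ s • u = u := by
      intro s
      have h1 := hfb s
      rw [smul_mul'] at h1
      have h2 : t⁻¹ * (s • t) = u * (s • u)⁻¹ := by
        rw [inv_mul_eq_iff_eq_mul, ← mul_assoc, ← h1, mul_inv_cancel_right]
      have h3 : t⁻¹ * (s • t) ∈ RGD.Sup X' (RGD.Pos cs h) ⊓ T' := Subgroup.mem_inf.2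
        ⟨by rw [h2]; exact mul_mem hu (inv_mem ((H.act s).U hu)), mul_mem (inv_mem ht) ((H.act s).T t ht)⟩
      rw [U_inf_T R', Subgroup.mem_bot] at h3
      have h4 : s • t = t := (inv_mul_eq_one.1 h3).symm
      refine ⟨h4, ?_⟩
      rw [h4, mul_right_inj] at h1
      exact h1
    obtain ⟨t0, -, rfl⟩ := H.fT t ht fun s => (key s).1
    obtain ⟨u0, -, rfl⟩ := H.mem_U R R' hG hu fun s => (key s).2
    exact ⟨y * (t0 * u0), by rw [map_mul, map_mul]⟩
  · rintro ⟨y, rfl⟩ s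
    exact H.fix s y

end Fx

end Cfsg.Agent.H673.OC
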