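import Cfsg.Agent.H593.GlaubermanP2

/-!
# Glauberman descent (S4884, own characteristic, `q = 2`; helper673)

`S` a `p`-group acting on the finite group `G` of order prime to `p`, `ι : D →* G` with range the
fixed points.

* `exists_corr` : for `β ∈ Irr(D)` there are an `S`-invariant `χ ∈ Irr(G)` and `e = ±1` with
  `χ ∘ ι ≡ e β` (mod `p`), pointwise, as algebraic integers;
* `sum_cong` : for every `S`-invariant function `f` with integral values
  `∑ f χ ≡ e ∑ (f ∘ ι) β` (mod `p`); `sub_cong` : the same for a sum over an invariant subset.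
-/

set_option autoImplicit false
set_option linter.unusedSectionVars false

namespace Cfsg.Agent.H673.OC

open Cfsg
open scoped ComplexConjugate
open Cfsg.Agent.Characters.Core
open Cfsg.Agent.H593.GlaubermanP

/-- congruence of algebraic integers modulo `p` -/
def Cong (p : ℕ) (a b : ℂ) : Prop := ∃ z : ℂ, IsIntegral ℤ z ∧ a - b = (p : ℂ) * z

namespace Cong

variable {p : ℕ} {a b c d : ℂ}

theorem refl (a : ℂ) : Cong p a a := ⟨0, isIntegral_zero, by rw [sub_self, mul_zero]⟩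

theorem of_eq (h : a = b) : Cong p a b := h ▸ refl a

theorem symm (h : Cong p a b) : Cong p b a := by
  obtain ⟨z, hz, e⟩ := h
  exact ⟨-z, hz.neg, by linear_combination -e⟩

theorem trans (h : Cong p a b) (h' : Cong p b c) : Cong p a c := by
  obtain ⟨z, hz, e⟩ := h
  obtain ⟨z', hz', e'⟩ := h'
  exact ⟨z + z', hz.add hz', by linear_combination e + e'⟩

theorem add (h : Cong p a b) (h' : Cong p c d) : Cong p (a + c) (b + d) := by
  obtain ⟨z, hz, e⟩ := h
  obtain ⟨z', hz', e'⟩ := h'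
  exact ⟨z + z', hz.add hz', by linear_combination e + e'⟩

theorem mul_left (hc : IsIntegral ℤ c) (h : Cong p a b) : Cong p (c * a) (c * b) := by
  obtain ⟨z, hz, e⟩ := h
  exact ⟨c * z, hc.mul hz, by linear_combination c * e⟩

theorem mul_right (hc : IsIntegral ℤ c) (h : Cong p a b) : Cong p (a * c) (b * c) := by
  obtain ⟨z, hz, e⟩ := h
  exact ⟨z * c, hz.mul hc, by linear_combination c * e⟩

theorem sum {J : Type*} (s : Finset J) {f g : J → ℂ} (h : ∀ j ∈ s, Cong p (f j) (g j)) :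
    Cong p (∑ j ∈ s, f j) (∑ j ∈ s, g j) := by
  classical
  induction s using Finset.induction_on with
  | empty => exact refl _
  | insert j s hj ih =>
    rw [Finset.sum_insert hj, Finset.sum_insert hj]
    exact (h j (Finset.mem_insert_self j s)).add (ih fun i hi => h i (Finset.mem_insert_of_mem hi))

/-- a rational algebraic integer is an integer -/
theorem dvd_of_integral {p : ℕ} (hp : p ≠ 0) {m : ℤ} {z : ℂ} (hz : IsIntegral ℤ z)
    (h : (m : ℂ) = (p : ℂ) * z) : (p : ℤ) ∣ m := by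
  have hp' : (p : ℂ) ≠ 0 := Nat.cast_ne_zero.2 hp
  have h1 : z = ((((m : ℚ) / (p : ℚ) : ℚ)) : ℂ) := by
    push_cast
    rw [h]
    field_simp
  have h2 : IsIntegral ℤ ((m : ℚ) / (p : ℚ)) := by
    have h3 : IsIntegral ℤ (algebraMap ℚ ℂ ((m : ℚ) / (p : ℚ))) := by
      rw [← show z = algebraMap ℚ ℂ ((m : ℚ) / (p : ℚ)) from h1]
      exact hz
    exact (isIntegral_algebraMap_iff (algebraMap ℚ ℂ).injective).1 h3
  obtain ⟨k, hk⟩ := IsIntegrallyClosed.isIntegral_iff.1 h2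
  refine ⟨k, ?_⟩
  have hp'' : (p : ℚ) ≠ 0 := Nat.cast_ne_zero.2 hp
  have h4 : (k : ℚ) = (m : ℚ) / (p : ℚ) := hk
  have h5 : (m : ℚ) = (p : ℚ) * (k : ℚ) := by
    rw [h4]; field_simp
  exact_mod_cast h5

theorem int_modEq (hp : p ≠ 0) {m n : ℤ} (h : Cong p (m : ℂ) (n : ℂ)) : m ≡ n [ZMOD p] := by
  obtain ⟨z, hz, e⟩ := h
  refine (Int.modEq_iff_dvd.2 ?_).symm
  refine dvd_of_integral hp hz ?_
  push_cast
  exact e

theorem of_modEq {m n : ℤ} (h : m ≡ n [ZMOD p]) : Cong p (m : ℂ) (n : ℂ) := by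
  obtain ⟨k, hk⟩ := h.symm.dvd
  refine ⟨k, isIntegral_intCast k, ?_⟩
  exact_mod_cast hk

/-- the weighted fixed point lemma -/
theorem sum_fixed [Fact p.Prime] {P Ω : Type*} [Group P] [MulAction P Ω] [Fintype Ω] (hP : IsPGroup p P)
    (f : Ω → ℂ) (hf : ∀ (u : P) (ω : Ω), f (u • ω) = f ω) (hfi : ∀ ω, IsIntegral ℤ (f ω))
    [DecidablePred (· ∈ MulAction.fixedPoints P Ω)] :
    Cong p (∑ ω, f ω) (∑ ω ∈ Finset.univ.filter (· ∈ MulAction.fixedPoints P Ω), f ω) := by
  obtain ⟨a, ha⟩ := Cfsg.Agent.Blocks.OrbitSum.sum_eq_sum_fixed_add_smul (p := p) hP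
    (fun ω => (⟨f ω, hfi ω⟩ : AlgInt)) (fun u ω => Subtype.ext (hf u ω))
  refine ⟨a, a.2, ?_⟩
  have h1 := congrArg (fun z : AlgInt => (z : ℂ)) ha
  simp only [nsmul_eq_mul] at h1
  push_cast at h1
  rw [h1, add_sub_cancel_left]

end Cong

section Main

variable {G : Type*} [Group G] [Fintype G] {D : Type*} [Group D] [Fintype D] {ι : D →* G}
  {S : Type*} [Group S] [MulDistribMulAction S G] {p : ℕ} [Fact p.Prime]

theorem isIntegral_irr (χ : IrrCharacter G) (g : G) : IsIntegral ℤ ((χ : G → ℂ) g) :=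
  Cfsg.Agent.Blocks.Central.isIntegral_irr χ.2 g

/-- `χ ∘ ι ≡ e β` pointwise -/
theorem exists_corr (h : Setup S ι p) (β : IrrCharacter D) :
    ∃ (χ : IrrCharacter G) (e : ℤ), (e = 1 ∨ e = -1) ∧ Inv S (χ : G → ℂ) ∧
      ∀ d, Cong p ((χ : G → ℂ) (ι d)) ((e : ℂ) * (β : D → ℂ) d) := by
  classical
  obtain ⟨M, hM⟩ := Cfsg.Agent.Blocks.ExistsModular.exists_isPModular (p := p) Fact.out
  obtain ⟨χ, hχ, hb⟩ := exists_chi h hM β
  obtain ⟨m, hm⟩ := exists_mult (ι := ι) χ β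
  have hpm : ¬ p ∣ m := fun h' => hb ((good_iff h hM hm).2 h')
  have : Finite (IrrCharacter D) := finite_irr
  have := Fintype.ofFinite (IrrCharacter D)
  obtain ⟨n, hn⟩ := exists_nat_comb (isCharacter_comp ι (isIrr_isCharacter χ.2))
  have hinner : ∀ γ : IrrCharacter D, classInner ((χ : G → ℂ) ∘ ι) (γ : D → ℂ) = n γ := by
    intro γ
    rw [hn, classInner_sum_nsmul_irr]
  have hnβ : n β = m := by
    have := hinner β
    rw [hm] at this
    exact_mod_cast this.symm
  obtain ⟨e, he, hme⟩ : ∃ e : ℤ, (e = 1 ∨ e = -1) ∧ (m : ℤ) ≡ e [ZMOD p] := by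
    rcases mult_modEq h hM hχ hm hpm with h1 | h1
    · exact ⟨1, Or.inl rfl, h1⟩
    · exact ⟨-1, Or.inr rfl, h1⟩
  refine ⟨χ, e, he, hχ, fun d => ?_⟩
  have h1 := congrFun hn d
  rw [Function.comp_apply, Finset.sum_apply] at h1
  rw [h1]
  have h2 : (e : ℂ) * (β : D → ℂ) d = ∑ γ : IrrCharacter D, if γ = β then (e : ℂ) * (β : D → ℂ) d else 0 := by
    rw [Finset.sum_ite_eq' Finset.univ β, if_pos (Finset.mem_univ _)]
  rw [h2]
  refine Cong.sum _ fun γ _ => ?_
  rw [Pi.smul_apply, nsmul_eq_mul]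
  by_cases hγ : γ = β
  · subst hγ
    rw [if_pos rfl, hnβ]
    have h3 : Cong p (((m : ℤ)) : ℂ) (e : ℂ) := Cong.of_modEq hme
    rw [Int.cast_natCast] at h3
    exact h3.mul_right (isIntegral_irr γ d)
  · rw [if_neg hγ]
    have h4 : p ∣ n γ := by
      by_contra h4
      have h5 : ¬ Cfsg.MemLocalIdeal M (b ι χ γ) := fun h' => h4 ((good_iff h hM (hinner γ)).1 h')
      exact hγ (unique_beta h hM hχ h5 hb)
    obtain ⟨k, hk⟩ := h4
    refine ⟨(k : ℂ) * (γ : D → ℂ) d, (isIntegral_natCast k).mul (isIntegral_irr γ d), ?_⟩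
    rw [hk]
    push_cast
    ring

/-- the correspondence of characters, as a relation -/
structure Corr (S : Type*) [Group S] [MulDistribMulAction S G] (ι : D →* G) (p : ℕ) (χ : G → ℂ) (β : D → ℂ) (e : ℤ) :
    Prop where
  sign : e = 1 ∨ e = -1
  inv : Inv S χ
  cong : ∀ d, Cong p (χ (ι d)) ((e : ℂ) * β d)

theorem exists_corr' (h : Setup S ι p) (β : IrrCharacter D) :
    ∃ (χ : IrrCharacter G) (e : ℤ), Corr S ι p (χ : G → ℂ) (β : D → ℂ) e := by
  obtain ⟨χ, e, h1, h2, h3⟩ := exists_corr h β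
  exact ⟨χ, e, h1, h2, h3⟩

/-- sums of invariant functions -/
theorem sum_inv_cong (h : Setup S ι p) (f : G → ℂ) (hf : Inv S f) (hfi : ∀ g, IsIntegral ℤ (f g)) :
    Cong p (∑ g, f g) (∑ d, f (ι d)) := by
  classical
  have h1 := Cong.sum_fixed (P := S) (Ω := G) h.pgroup f hf hfi
  rw [h.filter_eq, Finset.sum_image (fun x _ y _ hxy => h.inj hxy)] at h1
  exact h1

/-- **Glauberman correspondence and invariant functions** -/
theorem Corr.sum_cong (h : Setup S ι p) {χ : G → ℂ} {β : D → ℂ} {e : ℤ} (hc : Corr S ι p χ β e)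
    (hχ : ∀ g, IsIntegral ℤ (χ g)) {f : G → ℂ} (hf : Inv S f) (hfi : ∀ g, IsIntegral ℤ (f g)) :
    Cong p (∑ g, f g * χ g) ((e : ℂ) * ∑ d, f (ι d) * β d) := by
  refine (sum_inv_cong h (fun g => f g * χ g) (fun s g => by
    show f (s • g) * χ (s • g) = _
    rw [hf, hc.inv]) fun g => (hfi g).mul (hχ g)).trans ?_
  rw [Finset.mul_sum]
  refine Cong.sum _ fun d _ => ?_
  refine ((hc.cong d).mul_left (hfi (ι d))).trans (Cong.of_eq ?_)
  ring

/-- the same over an invariant subset -/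
theorem Corr.subset_cong (h : Setup S ι p) {χ : G → ℂ} {β : D → ℂ} {e : ℤ} (hc : Corr S ι p χ β e)
    (hχ : ∀ g, IsIntegral ℤ (χ g)) (X : Finset G) (hX : ∀ (s : S), ∀ g ∈ X, s • g ∈ X)
    [DecidablePred fun d : D => ι d ∈ X] :
    Cong p (∑ g ∈ X, χ g) ((e : ℂ) * ∑ d ∈ Finset.univ.filter (fun d : D => ι d ∈ X), β d) := by
  classical
  have h1 := hc.sum_cong h hχ (f := fun g => if g ∈ X then 1 else 0) (fun s g => by
    have h2 : s • g ∈ X ↔ g ∈ X :=
      ⟨fun h3 => by simpa using hX s⁻¹ _ h3, hX s g⟩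
    show (if s • g ∈ X then (1 : ℂ) else 0) = if g ∈ X then 1 else 0
    simp only [h2]) (fun g => by
    show IsIntegral ℤ (if g ∈ X then (1 : ℂ) else 0)
    split_ifs
    · exact isIntegral_one
    · exact isIntegral_zero)
  simp only [ite_mul, one_mul, zero_mul] at h1
  rw [← Finset.sum_filter, Finset.filter_mem_eq_inter, Finset.univ_inter] at h1
  rw [Finset.sum_filter]
  exact h1

/-- the number of fixed points of an invariant subset -/
theorem card_cong (h : Setup S ι p) (X : Finset G) (hX : ∀ (s : S), ∀ g ∈ X, s • g ∈ X)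
    [DecidablePred fun d : D => ι d ∈ X] :
    (X.card : ℤ) ≡ ((Finset.univ.filter (fun d : D => ι d ∈ X)).card : ℤ) [ZMOD p] := by
  classical
  have h1 := sum_inv_cong h (fun g => if g ∈ X then 1 else 0) (fun s g => by
    have h2 : s • g ∈ X ↔ g ∈ X :=
      ⟨fun h3 => by simpa using hX s⁻¹ _ h3, hX s g⟩
    show (if s • g ∈ X then (1 : ℂ) else 0) = if g ∈ X then 1 else 0
    simp only [h2]) (fun g => by
    show IsIntegral ℤ (if g ∈ X then (1 : ℂ) else 0)
    split_ifs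
    · exact isIntegral_one
    · exact isIntegral_zero)
  have h2 : ∑ g : G, (if g ∈ X then (1 : ℂ) else 0) = ((X.card : ℤ) : ℂ) := by
    rw [← Finset.sum_filter, Finset.filter_mem_eq_inter, Finset.univ_inter, Finset.sum_const, nsmul_eq_mul, mul_one,
      Int.cast_natCast]
  have h3 : ∑ d : D, (if ι d ∈ X then (1 : ℂ) else 0) =
      (((Finset.univ.filter (fun d : D => ι d ∈ X)).card : ℤ) : ℂ) := by
    rw [← Finset.sum_filter, Finset.sum_const, nsmul_eq_mul, mul_one, Int.cast_natCast]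
  refine Cong.int_modEq (Nat.Prime.ne_zero Fact.out) ?_
  rw [← h2, ← h3]
  convert h1

end Main

end Cfsg.Agent.H673.OC
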